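import Mathlib

universe u
open CategoryTheory AlgebraicGeometry TopologicalSpace

namespace Groth.Agent.LocEssFTLib

variable {X Y Z : Scheme.{u}}

/-- there is a good affine neighbourhood -/
def Good (f : X ⟶ Y) (U : Y.Opens) (x : X) : Prop :=
  ∃ V : X.affineOpens, x ∈ (V : X.Opens) ∧
    ∃ e : (V : X.Opens) ≤ f ⁻¹ᵁ U, (f.appLE U (V : X.Opens) e).hom.EssFiniteType

lemma cover_iff (f : X ⟶ Y) (U : Y.Opens) :
    (∃ T : Set X.affineOpens, (⋃ V ∈ T, ((V : X.Opens) : Set ↥X)) = ((f ⁻¹ᵁ U) : Set ↥X) ∧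
      ∀ V ∈ T, ∃ e : (V : X.Opens) ≤ f ⁻¹ᵁ U, (f.appLE U (V : X.Opens) e).hom.EssFiniteType) ↔
    ∀ x, f x ∈ U → Good f U x := by
  constructor
  · rintro ⟨T, hT, hT'⟩ x hx
    have hx' : x ∈ ((f ⁻¹ᵁ U) : Set ↥X) := hx
    rw [← hT, Set.mem_iUnion₂] at hx'
    obtain ⟨V, hV, hxV⟩ := hx'
    exact ⟨V, hxV, hT' V hV⟩
  · intro h
    refine ⟨{V | ∃ e : (V : X.Opens) ≤ f ⁻¹ᵁ U, (f.appLE U (V : X.Opens) e).hom.EssFiniteType},
      ?_, fun V hV => hV⟩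
    refine Set.Subset.antisymm (Set.iUnion₂_subset fun V hV => hV.choose) fun x hx => ?_
    obtain ⟨V, hxV, hV⟩ := h x hx
    exact Set.mem_iUnion₂.2 ⟨V, hV, hxV⟩

lemma res_essFT {W : X.Opens} (hW : IsAffineOpen W) (a : Γ(X, W)) :
    (X.presheaf.map (homOfLE (X.basicOpen_le a)).op).hom.EssFiniteType := by
  haveI := hW.isLocalization_basicOpen a
  have h : (algebraMap Γ(X, W) Γ(X, X.basicOpen a)).EssFiniteType :=
    RingHom.EssFiniteType.holdsForLocalization _ (Submonoid.powers a)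
  exact h

lemma res_of_eq {D D' W : Y.Opens} (h : D = D') (e : D ≤ W) (e' : D' ≤ W)
    (hP : (Y.presheaf.map (homOfLE e').op).hom.EssFiniteType) :
    (Y.presheaf.map (homOfLE e).op).hom.EssFiniteType := by
  subst h; exact hP

theorem good_transfer (f : X ⟶ Y) {U U' : Y.Opens} (hU : IsAffineOpen U) (hU' : IsAffineOpen U')
    (x : X) (hx' : f x ∈ U') (hx : f x ∈ U) (h : Good f U x) : Good f U' x := by
  obtain ⟨V, hxV, e, he⟩ := h
  obtain ⟨a, a', heq, hxa⟩ := exists_basicOpen_le_affine_inter hU hU' (f x) ⟨hx, hx'⟩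
  have hWeq : X.basicOpen (f.appLE U V e a) = (V : X.Opens) ⊓ f ⁻¹ᵁ Y.basicOpen a :=
    Scheme.basicOpen_appLE f _ U e a
  have eW : X.basicOpen (f.appLE U V e a) ≤ f ⁻¹ᵁ Y.basicOpen a := hWeq ▸ inf_le_right
  refine ⟨⟨X.basicOpen (f.appLE U V e a), V.2.basicOpen _⟩, ?_,
    eW.trans (fun y hy => ?_), ?_⟩
  · change x ∈ X.basicOpen (f.appLE U V e a)
    rw [hWeq]; exact ⟨hxV, hxa⟩
  · exact Y.basicOpen_le a' (heq ▸ (hy : f y ∈ Y.basicOpen a))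
  · -- from `U` to the basic open
    have h1 : (f.appLE (Y.basicOpen a) (X.basicOpen (f.appLE U V e a)) eW).hom.EssFiniteType := by
      refine RingHom.EssFiniteType.of_comp (Y.presheaf.map (homOfLE (Y.basicOpen_le a)).op).hom ?_
      rw [← CommRingCat.hom_comp, Scheme.Hom.map_appLE,
        ← Scheme.Hom.appLE_map f e (homOfLE (X.basicOpen_le (f.appLE U V e a))).op,
        CommRingCat.hom_comp]
      exact he.comp (res_essFT V.2 _)
    have h2 : (Y.presheaf.map (homOfLE (le_of_eq_of_le heq (Y.basicOpen_le a'))).op).hom.EssFiniteType := by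
      exact res_of_eq heq _ _ (res_essFT hU' a')
    have := h2.comp h1
    rw [← CommRingCat.hom_comp, Scheme.Hom.map_appLE] at this
    exact this

theorem iff_forall_affine (f : X ⟶ Y) :
    (∃ S : Set Y.affineOpens, (⋃ U ∈ S, ((U : Y.Opens) : Set ↥Y)) = Set.univ ∧
      ∀ U ∈ S, ∃ T : Set X.affineOpens, (⋃ V ∈ T, ((V : X.Opens) : Set ↥X)) = ((f ⁻¹ᵁ (U : Y.Opens)) : Set ↥X) ∧
        ∀ V ∈ T, ∃ e : (V : X.Opens) ≤ f ⁻¹ᵁ (U : Y.Opens), (f.appLE (U : Y.Opens) (V : X.Opens) e).hom.EssFiniteType) ↔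
    ∀ U : Y.affineOpens, ∃ T : Set X.affineOpens, (⋃ V ∈ T, ((V : X.Opens) : Set ↥X)) = ((f ⁻¹ᵁ (U : Y.Opens)) : Set ↥X) ∧
        ∀ V ∈ T, ∃ e : (V : X.Opens) ≤ f ⁻¹ᵁ (U : Y.Opens), (f.appLE (U : Y.Opens) (V : X.Opens) e).hom.EssFiniteType := by
  simp only [cover_iff]
  constructor
  · rintro ⟨S, hS, h⟩ U x hx
    obtain ⟨U₀, hU₀, hxU₀⟩ := Set.mem_iUnion₂.1 (hS.symm ▸ Set.mem_univ (f x))
    exact good_transfer f U₀.2 U.2 x hx hxU₀ (h U₀ hU₀ x hxU₀)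
  · intro h
    refine ⟨Set.univ, Set.eq_univ_of_forall fun y => ?_, fun U _ => h U⟩
    obtain ⟨U, hU, hy, -⟩ := Y.isBasis_affineOpens.exists_subset_of_mem_open
      (Set.mem_univ y) isOpen_univ
    obtain ⟨U', hU', rfl⟩ := hU
    exact Set.mem_iUnion₂.2 ⟨⟨U', hU'⟩, trivial, hy⟩

theorem comp (f : X ⟶ Y) (g : Y ⟶ Z)
    (hf : ∀ U : Y.affineOpens, ∀ x, f x ∈ (U : Y.Opens) → Good f U x)
    (hg : ∀ U : Z.affineOpens, ∀ y, g y ∈ (U : Z.Opens) → Good g U y)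
    (U : Z.affineOpens) (x : X) (hx : (f ≫ g) x ∈ (U : Z.Opens)) : Good (f ≫ g) U x := by
  obtain ⟨V, hyV, eg, heg⟩ := hg U (f x) hx
  obtain ⟨W, hxW, ef, hef⟩ := hf V x hyV
  refine ⟨W, hxW, ef.trans (fun y hy => eg hy), ?_⟩
  have := heg.comp hef
  rw [← CommRingCat.hom_comp, Scheme.Hom.appLE_comp_appLE] at this
  exact this

end Groth.Agent.LocEssFTLib
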