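/-
Essentially finite type morphisms: finite covers, base change.
-/
import Groth.Agent.LocEssFTLib.Basic

set_option autoImplicit false
set_option backward.isDefEq.respectTransparency false

universe u

open CategoryTheory Limits AlgebraicGeometry TopologicalSpace

namespace Groth.Agent.LocEssFTLib

variable {X Y Y' : Scheme.{u}}

theorem iff_forall_affine_finite (f : X ⟶ Y) :
    ((∃ S : Set Y.affineOpens, (⋃ U ∈ S, ((U : Y.Opens) : Set ↥Y)) = Set.univ ∧
      ∀ U ∈ S, ∃ T : Set X.affineOpens, (⋃ V ∈ T, ((V : X.Opens) : Set ↥X)) = ((f ⁻¹ᵁ (U : Y.Opens)) : Set ↥X) ∧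
        ∀ V ∈ T, ∃ e : (V : X.Opens) ≤ f ⁻¹ᵁ (U : Y.Opens), (f.appLE (U : Y.Opens) (V : X.Opens) e).hom.EssFiniteType) ∧ QuasiCompact f) ↔
    ∀ U : Y.affineOpens, ∃ T : Set X.affineOpens, T.Finite ∧ (⋃ V ∈ T, ((V : X.Opens) : Set ↥X)) = ((f ⁻¹ᵁ (U : Y.Opens)) : Set ↥X) ∧
        ∀ V ∈ T, ∃ e : (V : X.Opens) ≤ f ⁻¹ᵁ (U : Y.Opens), (f.appLE (U : Y.Opens) (V : X.Opens) e).hom.EssFiniteType := by
  rw [iff_forall_affine]
  constructor
  · rintro ⟨h, hqc⟩ U
    obtain ⟨T, hT, hT'⟩ := h U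
    have hc : IsCompact ((f ⁻¹ᵁ (U : Y.Opens)) : Set ↥X) :=
      (quasiCompact_iff_forall_isAffineOpen (f := f)).1 hqc U U.2
    obtain ⟨b, hbT, hb, hcov⟩ := hc.elim_finite_subcover_image
      (fun V (_ : V ∈ T) => ((V : X.Opens)).2) hT.ge
    refine ⟨b, hb, Set.Subset.antisymm ?_ hcov, fun V hV => hT' V (hbT hV)⟩
    exact Set.iUnion₂_subset fun V hV => (hT' V (hbT hV)).choose
  · intro h
    refine ⟨fun U => (h U).elim fun T hT => ⟨T, hT.2⟩,
      (quasiCompact_iff_forall_isAffineOpen (f := f)).2 fun U hU => ?_⟩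
    obtain ⟨T, hTf, hT, -⟩ := h ⟨U, hU⟩
    rw [show ((f ⁻¹ᵁ U) : Set ↥X) = _ from hT.symm]
    exact hTf.isCompact_biUnion fun V _ => V.2.isCompact

theorem baseChange (f : X ⟶ Y) (g : Y' ⟶ Y)
    (hf : ∀ U : Y.affineOpens, ∀ x, f x ∈ (U : Y.Opens) → Good f U x)
    (U : Y'.affineOpens) (z : ↥(pullback f g)) (hz : pullback.snd f g z ∈ (U : Y'.Opens)) :
    Good (pullback.snd f g) U z := by
  obtain ⟨U₀, hU₀, hyU₀, -⟩ := exists_isAffineOpen_mem_and_subset (X := Y) (U := ⊤)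
    (x := g (pullback.snd f g z)) trivial
  obtain ⟨a, ha, hza⟩ := U.2.exists_basicOpen_le (V := g ⁻¹ᵁ U₀) ⟨pullback.snd f g z, hyU₀⟩ hz
  have hxU₀ : f (pullback.fst f g z) ∈ U₀ := by
    rw [← Scheme.Hom.comp_apply, pullback.condition, Scheme.Hom.comp_apply]
    exact hyU₀
  obtain ⟨V, hxV, e, he⟩ := hf ⟨U₀, hU₀⟩ (pullback.fst f g z) hxU₀
  have hU'' : IsAffineOpen (Y'.basicOpen a) := U.2.basicOpen a
  let H := IsPullback.of_hasPullback f g
  let W : (pullback f g).Opens :=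
    pullback.fst f g ⁻¹ᵁ (V : X.Opens) ⊓ pullback.snd f g ⁻¹ᵁ Y'.basicOpen a
  have : IsAffine (V : X.Opens) := V.2
  have : IsAffine U₀ := hU₀
  have : IsAffine (Y'.basicOpen a) := hU''
  have hW : IsAffineOpen W :=
    .of_isIso (Scheme.Hom.isPullback_resLE H ha e (rfl : W = _)).isoPullback.hom
  have eW : W ≤ pullback.snd f g ⁻¹ᵁ Y'.basicOpen a := inf_le_right
  have sq := (isIso_pushoutSection_iff H ha e (rfl : W = _)).1
    (isIso_pushoutSection_of_isAffineOpen H ha e rfl hU₀ hU'' V.2)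
  have : (RingHom.toMorphismProperty RingHom.EssFiniteType).IsStableUnderCobaseChange :=
    RingHom.isStableUnderCobaseChange_toMorphismProperty_iff.2
      RingHom.EssFiniteType.isStableUnderBaseChange
  have h1 : ((pullback.snd f g).appLE (Y'.basicOpen a) W eW).hom.EssFiniteType :=
    MorphismProperty.of_isPushout (P := RingHom.toMorphismProperty RingHom.EssFiniteType)
      sq.flip he
  refine ⟨⟨W, hW⟩, ⟨hxV, hza⟩, eW.trans fun w hw => Y'.basicOpen_le a hw, ?_⟩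
  have := (res_essFT U.2 a).comp h1
  rw [← CommRingCat.hom_comp, Scheme.Hom.map_appLE] at this
  exact this

end Groth.Agent.LocEssFTLib
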